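import Mathlib.GroupTheory.Nilpotent
import Mathlib.GroupTheory.PGroup
import Mathlib.GroupTheory.Sylow
import Mathlib.GroupTheory.SpecificGroups.Cyclic

/-!
A normal subgroup `N` of a finite group `G` such that every element of `N \ Z(N)` has a maximal
subgroup of `G` as centralizer: basic facts on the member `N ∩ C(x)`.

Each member is either normal in `N` or self-normalising in `N`, and is abelian or a `p`-group
modulo `Z(N)`; in particular it is nilpotent.
-/

set_option autoImplicit false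

namespace CfsgLib.MaxCentralizers

variable {G : Type*} [Group G]

/-- The hypothesis: centralizers in `G` of elements of `N \ Z(N)` are maximal subgroups. -/
def MaxCent (N : Subgroup G) : Prop :=
  ∀ x : G, x ∈ N → x ∉ Subgroup.centralizer (N : Set G) → IsCoatom (Subgroup.centralizer ({x} : Set G))

/-- `Z(N)` as a subgroup of `G`. -/
def zN (N : Subgroup G) : Subgroup G := N ⊓ Subgroup.centralizer (N : Set G)

/-- `C_N(x)`. -/
def cN (N : Subgroup G) (x : G) : Subgroup G := N ⊓ Subgroup.centralizer {x}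

/-- `C_N(x)` is normal in `N`. -/
def IsNorm (N : Subgroup G) (x : G) : Prop :=
  ∀ g ∈ N, ∀ c ∈ cN N x, g * c * g⁻¹ ∈ cN N x

/-- `C_N(x)` is self-normalising in `N`. -/
def IsSelf (N : Subgroup G) (x : G) : Prop :=
  ∀ g ∈ N, (∀ c ∈ cN N x, g * c * g⁻¹ ∈ cN N x) → g ∈ cN N x

variable {N : Subgroup G}

theorem mem_cN {x y : G} : y ∈ cN N x ↔ y ∈ N ∧ y * x = x * y :=
  Iff.and Iff.rfl Subgroup.mem_centralizer_singleton_iff

theorem cN_le {x : G} : cN N x ≤ N := inf_le_left

theorem self_mem_cN {x : G} (hx : x ∈ N) : x ∈ cN N x := mem_cN.2 ⟨hx, rfl⟩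

theorem mem_zN {z : G} : z ∈ zN N ↔ z ∈ N ∧ ∀ n ∈ N, n * z = z * n :=
  Iff.and Iff.rfl Subgroup.mem_centralizer_iff

theorem zN_le_cN {x : G} (hx : x ∈ N) : zN N ≤ cN N x := fun z hz =>
  mem_cN.2 ⟨hz.1, ((mem_zN.1 hz).2 x hx).symm⟩

theorem exists_not_commute {x : G} (hxN : x ∈ N) (hx : x ∉ zN N) : ∃ n ∈ N, n * x ≠ x * n := by
  by_contra hc
  push Not at hc
  exact hx (mem_zN.2 ⟨hxN, hc⟩)

theorem cN_ne {x : G} (hxN : x ∈ N) (hx : x ∉ zN N) : cN N x ≠ N := fun h => by
  obtain ⟨n, hn, hne⟩ := exists_not_commute hxN hx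
  exact hne (mem_cN.1 (h.ge hn)).2

theorem isCoatom_of (hN : MaxCent N) {x : G} (hxN : x ∈ N) (hx : x ∉ zN N) :
    IsCoatom (Subgroup.centralizer ({x} : Set G)) :=
  hN x hxN fun h => hx ⟨hxN, h⟩

/-- Maximality: comparable centralizers of non-central elements are equal. -/
theorem centralizer_eq_of_le (hN : MaxCent N) {x y : G} (hxN : x ∈ N) (hx : x ∉ zN N)
    (hyN : y ∈ N) (hy : y ∉ zN N)
    (h : Subgroup.centralizer ({x} : Set G) ≤ Subgroup.centralizer {y}) :
    Subgroup.centralizer ({x} : Set G) = Subgroup.centralizer {y} := by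
  refine ((isCoatom_of hN hxN hx).le_iff.1 h).resolve_left ?_ |>.symm
  exact (isCoatom_of hN hyN hy).1

theorem cN_eq_of_centralizer_eq {x y : G}
    (h : Subgroup.centralizer ({x} : Set G) = Subgroup.centralizer {y}) : cN N x = cN N y := by
  rw [cN, cN, h]

theorem centralizer_le_of_mem_zpowers {x y : G} (h : y ∈ Subgroup.zpowers x) :
    Subgroup.centralizer ({x} : Set G) ≤ Subgroup.centralizer {y} := by
  intro g hg
  obtain ⟨k, rfl⟩ := h
  exact Subgroup.mem_centralizer_singleton_iff.2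
    ((Commute.zpow_right (Subgroup.mem_centralizer_singleton_iff.1 hg : Commute g x) k).eq)

/-- Conjugation moves `C_N(x)` to `C_N(gxg⁻¹)`. -/
theorem conj_mem_cN_iff [N.Normal] {g x c : G} :
    g * c * g⁻¹ ∈ cN N (g * x * g⁻¹) ↔ c ∈ cN N x := by
  rw [mem_cN, mem_cN]
  refine Iff.and ⟨fun h => ?_, fun h => Subgroup.Normal.conj_mem inferInstance c h g⟩ ⟨fun h => ?_, fun h => ?_⟩
  · have := Subgroup.Normal.conj_mem (inferInstance : N.Normal) _ h g⁻¹
    simpa [mul_assoc] using this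
  · calc c * x = g⁻¹ * ((g * c * g⁻¹) * (g * x * g⁻¹)) * g := by group
      _ = g⁻¹ * ((g * x * g⁻¹) * (g * c * g⁻¹)) * g := by rw [h]
      _ = x * c := by group
  · calc (g * c * g⁻¹) * (g * x * g⁻¹) = g * (c * x) * g⁻¹ := by group
      _ = g * (x * c) * g⁻¹ := by rw [h]
      _ = (g * x * g⁻¹) * (g * c * g⁻¹) := by group

theorem conj_mem_zN [N.Normal] {g z : G} (hz : z ∈ zN N) : g * z * g⁻¹ ∈ zN N := by
  refine mem_zN.2 ⟨Subgroup.Normal.conj_mem inferInstance z hz.1 g, fun n hn => ?_⟩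
  have hn' : g⁻¹ * n * g ∈ N := by
    simpa using Subgroup.Normal.conj_mem (inferInstance : N.Normal) n hn g⁻¹
  calc n * (g * z * g⁻¹) = g * ((g⁻¹ * n * g) * z) * g⁻¹ := by group
    _ = g * (z * (g⁻¹ * n * g)) * g⁻¹ := by rw [(mem_zN.1 hz).2 _ hn']
    _ = (g * z * g⁻¹) * n := by group

theorem not_mem_zN_conj [N.Normal] {g x : G} (hx : x ∉ zN N) : g * x * g⁻¹ ∉ zN N := fun h => hx (by
  simpa [mul_assoc] using conj_mem_zN (g := g⁻¹) h)

/-- An element centralising `x` maps `C_N(x)` to itself. -/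
theorem conj_mem_cN [N.Normal] {g x c : G} (hg : g ∈ Subgroup.centralizer ({x} : Set G))
    (hc : c ∈ cN N x) : g * c * g⁻¹ ∈ cN N x := by
  have h : g * x * g⁻¹ = x := by
    rw [Subgroup.mem_centralizer_singleton_iff.1 hg, mul_inv_cancel_right]
  have := (conj_mem_cN_iff (g := g)).2 hc
  rwa [h] at this

/-- The key property: the only `C_G(x)`-invariant subgroups between `C_N(x)` and `N` are the two
ends. -/
theorem eq_or_eq (hN : MaxCent N) [N.Normal] {x : G} (hxN : x ∈ N) (hx : x ∉ zN N)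
    {L : Subgroup G} (h1 : cN N x ≤ L) (h2 : L ≤ N)
    (h3 : ∀ m ∈ Subgroup.centralizer ({x} : Set G), ∀ l ∈ L, m * l * m⁻¹ ∈ L) :
    L = cN N x ∨ L = N := by
  set M := Subgroup.centralizer ({x} : Set G) with hM
  have hnor : M ≤ Subgroup.normalizer (L : Set G) := fun m hm =>
    Subgroup.mem_normalizer_iff.2 fun l => ⟨h3 m hm l, fun hl => by
      have := h3 m⁻¹ (inv_mem hm) _ hl
      simpa [mul_assoc] using this⟩
  by_cases hLM : L ≤ M
  · exact Or.inl (le_antisymm (le_inf h2 hLM) h1)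
  · right
    refine le_antisymm h2 fun n hn => ?_
    have htop : M ⊔ L = ⊤ := (isCoatom_of hN hxN hx).lt_iff.1
      (lt_of_le_of_ne le_sup_left fun h => hLM (h.ge.trans' le_sup_right))
    have hn' : n ∈ ((M ⊔ L : Subgroup G) : Set G) := by rw [htop]; exact Subgroup.mem_top n
    rw [Subgroup.coe_mul_of_left_le_normalizer_right M L hnor] at hn'
    obtain ⟨m, hm, l, hl, rfl⟩ := Set.mem_mul.1 hn'
    refine mul_mem (h1 ⟨?_, hm⟩) hl
    exact (Subgroup.mul_mem_cancel_right N (h2 hl)).1 hn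

/-- Each member is normal or self-normalising in `N`. -/
theorem isNorm_or_isSelf [Finite G] (hN : MaxCent N) [N.Normal] {x : G} (hxN : x ∈ N) (hx : x ∉ zN N) :
    IsNorm N x ∨ IsSelf N x := by
  have hmem : ∀ g, (∀ c ∈ cN N x, g * c * g⁻¹ ∈ cN N x) → ∀ c,
      g * c * g⁻¹ ∈ cN N x → c ∈ cN N x := by
    intro g hg c hc
    have hinj : Function.Injective fun t : cN N x => (⟨g * t * g⁻¹, hg t t.2⟩ : cN N x) :=
      fun a b h => Subtype.ext (by simpa using congrArg (fun t : cN N x => (t : G)) h)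
    obtain ⟨t, ht⟩ := (Finite.injective_iff_surjective.1 hinj) ⟨_, hc⟩
    have : (t : G) = c := by simpa using congrArg (fun t : cN N x => (t : G)) ht
    exact this ▸ t.2
  set L := N ⊓ Subgroup.normalizer (cN N x : Set G) with hL
  have hC : cN N x ≤ L := le_inf cN_le Subgroup.le_normalizer
  have hinv : ∀ m ∈ Subgroup.centralizer ({x} : Set G), ∀ l ∈ L, m * l * m⁻¹ ∈ L := by
    intro m hm l hl
    refine ⟨Subgroup.Normal.conj_mem inferInstance l hl.1 m, ?_⟩
    have hm' : m ∈ Subgroup.normalizer (cN N x : Set G) :=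
      Subgroup.mem_normalizer_iff.2 fun c => ⟨conj_mem_cN hm, fun hc => by
        have := conj_mem_cN (inv_mem hm) hc
        simpa [mul_assoc] using this⟩
    exact (Subgroup.normalizer (cN N x : Set G)).mul_mem
      ((Subgroup.normalizer (cN N x : Set G)).mul_mem hm' hl.2)
      ((Subgroup.normalizer (cN N x : Set G)).inv_mem hm')
  rcases eq_or_eq hN hxN hx hC inf_le_left hinv with h | h
  · right
    intro g hg hgc
    refine h.le ⟨hg, Subgroup.mem_normalizer_iff.2 fun c => ?_⟩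
    exact ⟨hgc c, hmem g hgc c⟩
  · left
    exact fun g hg c hc => ((Subgroup.mem_normalizer_iff.1 (h.ge hg).2) c).1 hc

end CfsgLib.MaxCentralizers
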