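import Cfsg.Agent.MaxCentralizers.Basic

/-!
Members `C_N(x)`: abelian or a `p`-group modulo `Z(N)`, nilpotent; self-normalising ones are maximal
among members, and the non-abelian ones are `S · Z(N)` for a Sylow subgroup `S` of `N`.
-/

set_option autoImplicit false

namespace CfsgLib.MaxCentralizers

variable {G : Type*} [Group G] [Finite G] {N : Subgroup G}

/-- Every element of `C_N(x)` of order prime to `p` lies in `Z(N)`. -/
def IsPType (N : Subgroup G) (p : ℕ) (x : G) : Prop :=
  ∀ y ∈ cN N x, (orderOf y).Coprime p → y ∈ zN N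

/-- A subgroup containing all elements of prime power order of a subgroup contains it. -/
theorem le_of_primePow {X Y : Subgroup G}
    (h : ∀ x ∈ X, ∀ p k : ℕ, p.Prime → orderOf x = p ^ k → x ∈ Y) : X ≤ Y := by
  have hdvd : Nat.card X ∣ Nat.card (X ⊓ Y : Subgroup G) := by
    refine (Nat.dvd_iff_prime_pow_dvd_dvd _ _).2 fun p k hp hpk => ?_
    haveI : Fact p.Prime := ⟨hp⟩
    obtain ⟨S, hS⟩ := Sylow.exists_subgroup_card_pow_prime p hpk
    have hle : S.map X.subtype ≤ X ⊓ Y := by
      rintro _ ⟨s, hs, rfl⟩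
      refine ⟨s.2, ?_⟩
      have hd : orderOf (s : G) ∣ p ^ k := by
        rw [Subgroup.orderOf_coe, ← hS]
        exact Subgroup.orderOf_dvd_natCard _ hs
      obtain ⟨j, -, hj⟩ := (Nat.dvd_prime_pow hp).1 hd
      exact h _ s.2 p j hp hj
    have := Subgroup.card_dvd_of_le hle
    rwa [Subgroup.card_map_of_injective X.subtype_injective, hS] at this
  have := Subgroup.eq_of_le_of_card_ge (inf_le_left : X ⊓ Y ≤ X) (Nat.le_of_dvd Nat.card_pos hdvd)
  exact this ▸ inf_le_right

/-- A prime power part of a non-central element with the same centralizer. -/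
theorem exists_primary (hN : MaxCent N) {x : G} (hxN : x ∈ N) (hx : x ∉ zN N) :
    ∃ p, p.Prime ∧ ∃ w ∈ Subgroup.zpowers x, w ∈ N ∧ w ∉ zN N ∧ (∃ k, orderOf w = p ^ k) ∧
      Subgroup.centralizer ({x} : Set G) = Subgroup.centralizer {w} := by
  by_contra hc
  push Not at hc
  refine hx ((le_of_primePow (X := Subgroup.zpowers x) (Y := zN N) fun w hw p k hp hk => ?_)
    (Subgroup.mem_zpowers x))
  by_contra hwz
  have hwN : w ∈ N := Subgroup.zpowers_le.2 hxN hw
  exact hc p hp w hw hwN hwz ⟨k, hk⟩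
    (centralizer_eq_of_le hN hxN hx hwN hwz (centralizer_le_of_mem_zpowers hw))

/-- Commuting non-central elements of coprime order have the same centralizer. -/
theorem centralizer_eq_of_coprime (hN : MaxCent N) {x y : G} (hxN : x ∈ N) (hx : x ∉ zN N)
    (hyN : y ∈ N) (hy : y ∉ zN N) (hc : Commute x y) (hco : (orderOf x).Coprime (orderOf y)) :
    Subgroup.centralizer ({x} : Set G) = Subgroup.centralizer {y} := by
  have key : ∀ a b : G, Commute a b → (orderOf a).Coprime (orderOf b) →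
      a ∈ Subgroup.zpowers (a * b) := by
    intro a b hab hco
    obtain ⟨m, hm⟩ := exists_pow_eq_self_of_coprime hco.symm
    refine ⟨((orderOf b * m : ℕ) : ℤ), ?_⟩
    change (a * b) ^ (((orderOf b * m : ℕ) : ℤ)) = a
    rw [zpow_natCast, pow_mul, hab.mul_pow, pow_orderOf_eq_one, mul_one, hm]
  have hxy : x * y ∈ N := mul_mem hxN hyN
  have hxm := key x y hc hco
  have hym : y ∈ Subgroup.zpowers (x * y) := hc.eq ▸ key y x hc.symm hco.symm
  have hxyz : x * y ∉ zN N := fun h => hx (Subgroup.zpowers_le.2 h hxm)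
  rw [← centralizer_eq_of_le hN hxy hxyz hxN hx (centralizer_le_of_mem_zpowers hxm),
    centralizer_eq_of_le hN hxy hxyz hyN hy (centralizer_le_of_mem_zpowers hym)]

theorem coprime_of_primePow {a p k : ℕ} (hp : p.Prime) {q : ℕ} (hq : q.Prime) (hne : q ≠ p)
    (ha : a = q ^ k) : a.Coprime p :=
  ha ▸ Nat.Coprime.pow_left _ ((Nat.coprime_primes hq hp).2 hne)

/-- Each member is abelian or a `p`-group modulo `Z(N)`. -/
theorem comm_or_pType (hN : MaxCent N) {x : G} (hxN : x ∈ N) (hx : x ∉ zN N) :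
    (∀ a ∈ cN N x, ∀ b ∈ cN N x, a * b = b * a) ∨ ∃ p, p.Prime ∧ IsPType N p x := by
  obtain ⟨p, hp, w, -, hwN, hwz, ⟨k, hk⟩, hw⟩ := exists_primary hN hxN hx
  by_cases hall : IsPType N p x
  · exact Or.inr ⟨p, hp, hall⟩
  left
  simp only [IsPType, not_forall] at hall
  obtain ⟨y, hy, hyp, hyz⟩ := hall
  have hy' : Commute y w :=
    (mem_cN.1 ((cN_eq_of_centralizer_eq hw) ▸ hy : y ∈ cN N w)).2
  have hyw : Subgroup.centralizer ({w} : Set G) = Subgroup.centralizer {y} :=
    centralizer_eq_of_coprime hN hwN hwz hy.1 hyz hy'.symm (hk ▸ Nat.Coprime.pow_left _ hyp.symm)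
  intro a ha b hb
  by_cases hbz : b ∈ zN N
  · exact (mem_zN.1 hbz).2 a ha.1
  obtain ⟨q, hq, v, hvb, hvN, hvz, ⟨j, hj⟩, hv⟩ := exists_primary hN hb.1 hbz
  have hvC : v ∈ cN N x := Subgroup.zpowers_le.2 hb hvb
  have hvw : v ∈ cN N w := cN_eq_of_centralizer_eq hw ▸ hvC
  have hvy : v ∈ cN N y := cN_eq_of_centralizer_eq hyw ▸ hvw
  have heq : Subgroup.centralizer ({b} : Set G) = Subgroup.centralizer {x} := by
    rw [hv, hw]
    by_cases hqp : q = p
    · rw [hyw]
      refine centralizer_eq_of_coprime hN hvN hvz hy.1 hyz (mem_cN.1 hvy).2 ?_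
      rw [hj, hqp]
      exact Nat.Coprime.pow_left _ hyp.symm
    · refine centralizer_eq_of_coprime hN hvN hvz hwN hwz (mem_cN.1 hvw).2 ?_
      rw [hk, hj]
      exact Nat.Coprime.pow _ _ ((Nat.coprime_primes hq hp).2 hqp)
  exact (mem_cN.1 (cN_eq_of_centralizer_eq heq ▸ ha : a ∈ cN N b)).2

/-- Members are nilpotent. -/
theorem isNilpotent_cN (hN : MaxCent N) {x : G} (hxN : x ∈ N) (hx : x ∉ zN N) :
    Group.IsNilpotent (cN N x) := by
  rcases comm_or_pType hN hxN hx with hc | ⟨p, hp, hP⟩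
  · haveI : IsMulCommutative (cN N x) :=
      IsMulCommutative.of_comm fun a b => Subtype.ext (hc a a.2 b b.2)
    exact ⟨⟨1, by
      rw [Subgroup.upperCentralSeries_one, Subgroup.eq_top_iff']
      exact fun a => Subgroup.mem_center_iff.2 fun b => Subtype.ext (hc b b.2 a a.2)⟩⟩
  · haveI : Fact p.Prime := ⟨hp⟩
    refine Group.of_quotient_center_nilpotent ?_
    refine IsPGroup.isNilpotent (p := p) (fun z => ?_)
    obtain ⟨z, rfl⟩ := QuotientGroup.mk_surjective z
    refine ⟨(orderOf (z : G)).factorization p, ?_⟩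
    rw [← QuotientGroup.mk_pow, QuotientGroup.eq_one_iff, Subgroup.mem_center_iff]
    intro b
    have hz : ((z : G) ^ p ^ (orderOf (z : G)).factorization p) ∈ zN N := by
      refine hP _ (pow_mem z.2 _) ?_
      rw [orderOf_pow' _ (pow_ne_zero _ hp.ne_zero), Nat.gcd_eq_right (Nat.ordProj_dvd _ _)]
      exact (Nat.coprime_ordCompl hp (orderOf_pos _).ne').symm
    exact Subtype.ext ((mem_zN.1 hz).2 b b.2.1)

/-- A self-normalising member is maximal among members. -/
theorem eq_of_isSelf_of_le (hN : MaxCent N) {x w : G} (hs : IsSelf N x)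
    (hwN : w ∈ N) (hw : w ∉ zN N) (hle : cN N x ≤ cN N w) : cN N x = cN N w := by
  haveI := isNilpotent_cN hN hwN hw
  set D := (cN N x).subgroupOf (cN N w) with hD
  by_contra hne
  have hDtop : D < ⊤ := lt_top_iff_ne_top.2 fun h =>
    hne (le_antisymm hle (Subgroup.subgroupOf_eq_top.1 h))
  obtain ⟨g, hg, hgD⟩ :=
    SetLike.exists_of_lt ((Group.normalizerCondition_of_isNilpotent (G := cN N w)) D hDtop)
  exact hgD (hs g g.2.1 fun c hc =>
    ((Subgroup.mem_normalizer_iff.1 hg) ⟨c, hle hc⟩).1 hc)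

/-- All non-central elements of an abelian self-normalising member have that member as theirs. -/
theorem cN_eq_of_mem (hN : MaxCent N) {x w : G} (hs : IsSelf N x)
    (hc : ∀ a ∈ cN N x, ∀ b ∈ cN N x, a * b = b * a) (hwm : w ∈ cN N x) (hw : w ∉ zN N) :
    cN N w = cN N x :=
  (eq_of_isSelf_of_le hN hs hwm.1 hw fun a ha => mem_cN.2 ⟨ha.1, hc a ha w hwm⟩).symm

/-- In an abelian self-normalising member distinct conjugates meet in `Z(N)`. -/
theorem mem_of_conj_mem (hN : MaxCent N) [N.Normal] {x w g : G} (hs : IsSelf N x)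
    (hc : ∀ a ∈ cN N x, ∀ b ∈ cN N x, a * b = b * a) (hg : g ∈ N) (hwm : w ∈ cN N x)
    (hw : w ∉ zN N) (hgw : g * w * g⁻¹ ∈ cN N x) : g ∈ cN N x := by
  refine hs g hg fun c hcm => ?_
  have h1 := cN_eq_of_mem hN hs hc hwm hw
  have h2 := cN_eq_of_mem hN hs hc hgw (not_mem_zN_conj hw)
  rw [← h2, conj_mem_cN_iff, h1]
  exact hcm

/-- A self-normalising non-abelian member is `S · Z(N)` for a Sylow `p`-subgroup `S` of `N`. -/
theorem exists_sylow (hN : MaxCent N) [N.Normal] {x : G} (hxN : x ∈ N) (hx : x ∉ zN N)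
    (hs : IsSelf N x) {p : ℕ} [Fact p.Prime] (hP : IsPType N p x) :
    ∃ S : Sylow p N, (S : Subgroup N).map N.subtype ⊔ zN N = cN N x := by
  have hp : p.Prime := Fact.out
  obtain ⟨P₀⟩ : Nonempty (Sylow p (cN N x)) := inferInstance
  set P := (P₀ : Subgroup (cN N x)).map (cN N x).subtype with hPdef
  have hPC : P ≤ cN N x := Subgroup.map_subtype_le _
  have hPp : IsPGroup p P := P₀.isPGroup'.map _
  have hPN : P ≤ N := hPC.trans cN_le
  obtain ⟨S, hS⟩ := (hPp.comap_subtype (K := N)).exists_le_sylow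
  set S' := (S : Subgroup N).map N.subtype with hS'
  have hPS : P ≤ S' := fun a ha => ⟨⟨a, hPN ha⟩, hS ha, rfl⟩
  -- `C = P ⊔ Z`
  have hC : cN N x ≤ P ⊔ zN N := by
    refine le_of_primePow fun a ha r k hr hk => ?_
    by_cases hrp : r = p
    · subst hrp
      have hap : IsPGroup r (Subgroup.zpowers (⟨a, ha⟩ : cN N x)) := by
        refine IsPGroup.of_card (n := k) ?_
        rw [Nat.card_zpowers, ← Subgroup.orderOf_coe]
        exact hk
      obtain ⟨Q, hQ⟩ := hap.exists_le_sylow
      obtain ⟨c, hc⟩ := MulAction.exists_smul_eq (cN N x) Q P₀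
      -- the Sylow subgroup of the nilpotent member is normal
      haveI := isNilpotent_cN hN hxN hx
      haveI : (P₀ : Subgroup (cN N x)).Normal :=
        Sylow.normal_of_normalizerCondition Group.normalizerCondition_of_isNilpotent P₀
      have hQP : Q = P₀ := by
        have : c⁻¹ • P₀ = P₀ := Sylow.smul_eq_of_normal
        rw [← this, ← hc, inv_smul_smul]
      refine le_sup_left (b := zN N) ?_
      exact ⟨⟨a, ha⟩, hQP ▸ hQ (Subgroup.mem_zpowers _), rfl⟩
    · exact le_sup_right (a := P) (hP a ha (coprime_of_primePow hp hr hrp hk))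
  refine ⟨S, le_antisymm (sup_le ?_ (zN_le_cN hxN)) (hC.trans (sup_le_sup_right hPS _))⟩
  -- `S ≤ C`
  by_contra hnle
  haveI : Group.IsNilpotent S := S.isPGroup'.isNilpotent
  set D := ((cN N x).subgroupOf N).subgroupOf (S : Subgroup N) with hD
  have hDtop : D < ⊤ := by
    refine lt_top_iff_ne_top.2 fun h => hnle ?_
    rintro _ ⟨s, hs', rfl⟩
    exact Subgroup.mem_subgroupOf.1 (Subgroup.subgroupOf_eq_top.1 h hs')
  obtain ⟨g, hg, hgD⟩ :=
    SetLike.exists_of_lt ((Group.normalizerCondition_of_isNilpotent (G := S)) D hDtop)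
  refine hgD (hs _ (g : N).2 fun c hc => ?_)
  have key : P ⊔ zN N ≤ (cN N x).comap (MulAut.conj ((g : N) : G)).toMonoidHom := by
    refine sup_le (fun a ha => ?_) fun z hz => ?_
    · exact ((Subgroup.mem_normalizer_iff.1 hg) ⟨⟨a, hPN ha⟩, hS ha⟩).1 (hPC ha)
    · exact zN_le_cN hxN (conj_mem_zN hz)
  exact key (hC hc)

/-- The centre of a non-abelian `p`-type member has index at least `p²`. -/
theorem card_center_mul_le {x : G} {p : ℕ} [Fact p.Prime] (hP : IsPType N p x)
    (hne : ¬ ∀ a ∈ cN N x, ∀ b ∈ cN N x, a * b = b * a) :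
    Nat.card (Subgroup.center (cN N x)) * p ^ 2 ≤ Nat.card (cN N x) := by
  have hp : p.Prime := Fact.out
  have hq : IsPGroup p (cN N x ⧸ Subgroup.center (cN N x)) := by
    intro z
    obtain ⟨z, rfl⟩ := QuotientGroup.mk_surjective z
    refine ⟨(orderOf (z : G)).factorization p, ?_⟩
    rw [← QuotientGroup.mk_pow, QuotientGroup.eq_one_iff, Subgroup.mem_center_iff]
    intro b
    have hz : ((z : G) ^ p ^ (orderOf (z : G)).factorization p) ∈ zN N := by
      refine hP _ (pow_mem z.2 _) ?_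
      rw [orderOf_pow' _ (pow_ne_zero _ hp.ne_zero), Nat.gcd_eq_right (Nat.ordProj_dvd _ _)]
      exact (Nat.coprime_ordCompl hp (orderOf_pos _).ne').symm
    exact Subtype.ext ((mem_zN.1 hz).2 b b.2.1)
  obtain ⟨k, hk⟩ := IsPGroup.iff_card.1 hq
  rw [← (Subgroup.center (cN N x)).card_mul_index]
  refine Nat.mul_le_mul_left _ ?_
  rw [Subgroup.index_eq_card, hk]
  refine Nat.pow_le_pow_right hp.pos ?_
  by_contra hk2
  refine hne fun a ha b hb => ?_
  haveI : IsCyclic (cN N x ⧸ Subgroup.center (cN N x)) := by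
    rcases (show k = 0 ∨ k = 1 by omega) with rfl | rfl
    · haveI : Subsingleton (cN N x ⧸ Subgroup.center (cN N x)) :=
        Finite.card_le_one_iff_subsingleton.1 (by simp [hk])
      exact isCyclic_of_subsingleton
    · exact isCyclic_of_prime_card (p := p) (by simpa using hk)
  exact congrArg Subtype.val (commutative_of_cyclic_center_quotient
    (QuotientGroup.mk' (Subgroup.center (cN N x))) (QuotientGroup.ker_mk' _).le
    ⟨a, ha⟩ ⟨b, hb⟩)

end CfsgLib.MaxCentralizers
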